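import Cfsg.Agent.LocalStructure.Zsigmondy

/-! # Large primitive divisors of `q ^ n - 1`

The cyclotomic value divided by its only possible non-primitive prime; outside thirteen pairs
this is at least `3 n + 1`. -/

set_option autoImplicit false

namespace Cfsg.Agent.LargePrimitive

open Polynomial LocalStructure

/-- The value of the `n`th cyclotomic polynomial at `q`. -/
noncomputable def cv (q n : ℕ) : ℕ := ((cyclotomic n ℤ).eval (q : ℤ)).natAbs

theorem sq_cv_ge {q n : ℕ} (hq : 2 ≤ q) (hn : 3 ≤ n) : 2 ^ n.totient ≤ cv q n ^ 2 := by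
  have hlow : ∀ (N a : ℕ), 1 < N → 2 ≤ a → (a - 1) ^ N.totient ≤ cv a N := fun N a hN ha =>
    (sub_one_pow_totient_lt_natAbs_cyclotomic_eval (q := a) hN (by omega)).le
  rcases Nat.lt_or_ge q 3 with h | h
  swap
  · calc 2 ^ n.totient ≤ (q - 1) ^ n.totient := Nat.pow_le_pow_left (by omega) _
      _ ≤ cv q n := hlow n q (by omega) hq
      _ ≤ cv q n ^ 2 := Nat.le_self_pow two_ne_zero _
  obtain rfl : q = 2 := by omega
  by_cases hsq : ∃ r : ℕ, r.Prime ∧ r ^ 2 ∣ n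
  · obtain ⟨r, hr, c, rfl⟩ := hsq
    have hrN : r ∣ r * c := dvd_mul_right r c
    have hN : 1 < r * c := lt_of_lt_of_le hr.one_lt (Nat.le_mul_of_pos_right r
      (Nat.pos_of_ne_zero fun e => by rw [e, mul_zero] at hn; omega))
    have he : cv 2 (r ^ 2 * c) = cv (2 ^ r) (r * c) := by
      have hexp := congrArg (eval (2 : ℤ)) (cyclotomic_expand_eq_cyclotomic hr hrN ℤ)
      rw [expand_eval, show r * c * r = r ^ 2 * c by ring] at hexp
      unfold cv
      rw [show ((2 ^ r : ℕ) : ℤ) = 2 ^ r by push_cast; rfl, hexp]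
      rfl
    have htot : (r ^ 2 * c).totient = r * (r * c).totient := by
      rw [← Nat.totient_mul_of_prime_of_dvd hr hrN]; congr 1; ring
    rw [he, htot, pow_mul]
    have h1 : (2 : ℕ) ≤ 2 ^ r := Nat.le_self_pow hr.ne_zero 2
    calc (2 ^ r) ^ (r * c).totient ≤ ((2 ^ r - 1) ^ 2) ^ (r * c).totient := by
          refine Nat.pow_le_pow_left ?_ _
          obtain ⟨x, hx⟩ := Nat.exists_eq_add_of_le h1
          have h4 : 2 ^ 2 ≤ 2 ^ r := Nat.pow_le_pow_right two_pos hr.two_le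
          rw [hx, show 2 + x - 1 = x + 1 by omega]
          nlinarith
      _ = ((2 ^ r - 1) ^ (r * c).totient) ^ 2 := by rw [← pow_mul, ← pow_mul, mul_comm]
      _ ≤ _ := Nat.pow_le_pow_left (hlow _ _ hN h1) 2
  · push Not at hsq
    obtain ⟨r, hr, hr2, hrn⟩ : ∃ r : ℕ, r.Prime ∧ r ≠ 2 ∧ r ∣ n := by
      by_contra hne
      push Not at hne
      have hp := Nat.eq_prime_pow_of_unique_prime_dvd (p := 2) (n := n) (by omega)
        (fun {s} hs hsn => by_contra fun h2 => hne s hs h2 hsn)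
      rcases Nat.lt_or_ge n.primeFactorsList.length 2 with hl | hl
      · have : n ≤ 2 ^ 1 := hp ▸ Nat.pow_le_pow_right two_pos (by omega)
        omega
      · exact hsq 2 Nat.prime_two (hp ▸ pow_dvd_pow 2 hl)
    obtain ⟨m, rfl⟩ := hrn
    have hrm : ¬ r ∣ m := fun h => hsq r hr (by rw [pow_two]; exact mul_dvd_mul_left r h)
    have hr3 : 3 ≤ r := lt_of_le_of_ne hr.two_le (Ne.symm hr2)
    have hexp := congrArg (eval (2 : ℝ)) (cyclotomic_expand_eq_cyclotomic_mul hr hrm ℝ)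
    rw [expand_eval, eval_mul, mul_comm m r] at hexp
    have hlo : ((2 : ℝ) ^ r - 1) ^ m.totient ≤ (cyclotomic m ℝ).eval ((2 : ℝ) ^ r) :=
      sub_one_pow_totient_le_cyclotomic_eval (one_lt_pow₀ (by norm_num) hr.ne_zero) m
    have hhi : (cyclotomic m ℝ).eval (2 : ℝ) ≤ ((2 : ℝ) + 1) ^ m.totient :=
      cyclotomic_eval_le_add_one_pow_totient (by norm_num) m
    have hpos : 0 < (cyclotomic (r * m) ℝ).eval (2 : ℝ) := cyclotomic_pos (by omega) _
    have hcast : (cv 2 (r * m) : ℝ) = (cyclotomic (r * m) ℝ).eval 2 := by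
      have h0 : (0 : ℤ) < (cyclotomic (r * m) ℤ).eval ((2 : ℕ) : ℤ) := cyclotomic_pos (by omega) _
      rw [← map_cyclotomic_int (r * m) ℝ, show (2 : ℝ) = ((2 : ℤ) : ℝ) by norm_num,
        eval_intCast_map, Int.cast_id, cv, Nat.cast_natAbs, abs_of_pos h0]
      simp
    rw [hexp] at hlo
    have hm : ((2 : ℝ) ^ r - 1) ^ m.totient ≤ (cv 2 (r * m) : ℝ) * 3 ^ m.totient := by
      rw [hcast]
      refine hlo.trans (mul_le_mul_of_nonneg_left (hhi.trans (le_of_eq (by norm_num))) hpos.le)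
    have hkey : (9 : ℝ) * 2 ^ (r - 1) ≤ ((2 : ℝ) ^ r - 1) ^ 2 := by
      have h8 : (8 : ℝ) ≤ 2 ^ r := by
        calc (8 : ℝ) = 2 ^ 3 := by norm_num
          _ ≤ 2 ^ r := pow_le_pow_right₀ (by norm_num) hr3
      have e : (2 : ℝ) * 2 ^ (r - 1) = 2 ^ r := by
        rw [← pow_succ', Nat.sub_add_cancel (by omega : 1 ≤ r)]
      nlinarith
    have htot : (r * m).totient = (r - 1) * m.totient := by
      rw [Nat.totient_mul ((hr.coprime_iff_not_dvd).mpr hrm), Nat.totient_prime hr]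
    have hfin : ((2 : ℝ) ^ (r * m).totient) ≤ (cv 2 (r * m) : ℝ) ^ 2 := by
      have h1 : ((9 : ℝ) * 2 ^ (r - 1)) ^ m.totient ≤
          ((cv 2 (r * m) : ℝ) * 3 ^ m.totient) ^ 2 := by
        refine (pow_le_pow_left₀ (by positivity) hkey _).trans ?_
        rw [← pow_mul, mul_comm, pow_mul]
        refine pow_le_pow_left₀ (pow_nonneg ?_ _) hm 2
        linarith [pow_le_pow_right₀ (by norm_num : (1 : ℝ) ≤ 2) (Nat.zero_le r)]
      rw [mul_pow, ← pow_mul, ← htot, mul_pow, ← pow_mul, mul_comm m.totient 2, pow_mul,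
        show (3 : ℝ) ^ 2 = 9 by norm_num, mul_comm ((cv 2 (r * m) : ℝ) ^ 2)] at h1
      exact le_of_mul_le_mul_left h1 (by positivity)
    exact_mod_cast hfin

theorem prime_dvd_n_unique {q n r s : ℕ} (hn : 0 < n) [Fact r.Prime] [Fact s.Prime]
    (hr : (r : ℤ) ∣ (cyclotomic n ℤ).eval (q : ℤ)) (hs : (s : ℤ) ∣ (cyclotomic n ℤ).eval (q : ℤ))
    (hrn : r ∣ n) (hsn : s ∣ n) : r = s := by
  by_contra hne
  obtain ⟨k, m, hnk, -, hm, -⟩ := order_of_root hn hr
  obtain ⟨j, l, hnj, -, hl, -⟩ := order_of_root hn hs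
  have hrp := (Fact.out : r.Prime)
  have hsp := (Fact.out : s.Prime)
  have h1 : s ∣ m := by
    rcases hsp.dvd_mul.mp (hnk ▸ hsn) with h | h
    · exact absurd ((Nat.prime_dvd_prime_iff_eq hsp hrp).mp (hsp.dvd_of_dvd_pow h)).symm hne
    · exact h
  have h2 : r ∣ l := by
    rcases hrp.dvd_mul.mp (hnj ▸ hrn) with h | h
    · exact absurd ((Nat.prime_dvd_prime_iff_eq hrp hsp).mp (hrp.dvd_of_dvd_pow h)) hne
    · exact h
  have := Nat.le_of_dvd (by have := hrp.two_le; omega) (h1.trans hm)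
  have := Nat.le_of_dvd (by have := hsp.two_le; omega) (h2.trans hl)
  omega

/-- A primitive divisor. -/
def IsPrimitiveDiv (q n m : ℕ) : Prop :=
  m ∣ q ^ n - 1 ∧ ∀ i : ℕ, 1 ≤ i → i < n → Nat.Coprime m (q ^ i - 1)

theorem exists_primitive_part {q n : ℕ} (hq : 2 ≤ q) (hn : 3 ≤ n) :
    ∃ M P : ℕ, cv q n = M * P ∧ P ≤ n ∧ IsPrimitiveDiv q n M := by
  have hpos : (0 : ℤ) < (cyclotomic n ℤ).eval (q : ℤ) := cyclotomic_pos (by omega) _
  have hcv : (cv q n : ℤ) = (cyclotomic n ℤ).eval (q : ℤ) := by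
    rw [cv, Int.natAbs_of_nonneg hpos.le]
  have hdvd : cv q n ∣ q ^ n - 1 := by
    rw [← Int.natCast_dvd_natCast, hcv, Nat.cast_sub (Nat.one_le_pow _ _ (by omega))]
    simpa using eval_dvd (x := (q : ℤ)) (cyclotomic.dvd_X_pow_sub_one n ℤ)
  have hcast : ∀ {s : ℕ}, s ∣ cv q n → (s : ℤ) ∣ (cyclotomic n ℤ).eval (q : ℤ) := fun h =>
    hcv ▸ Int.natCast_dvd_natCast.mpr h
  obtain ⟨M, P, hMP, hPn, hM⟩ : ∃ M P : ℕ, cv q n = M * P ∧ P ≤ n ∧
      ∀ s : ℕ, s.Prime → s ∣ M → ¬ s ∣ n := by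
    by_cases h : ∃ r : ℕ, r.Prime ∧ r ∣ cv q n ∧ r ∣ n
    · obtain ⟨r, hr, hrc, hrn⟩ := h
      obtain ⟨M, hM⟩ := id hrc
      refine ⟨M, r, by rw [hM, mul_comm], Nat.le_of_dvd (by omega) hrn, fun s hs hsM hsn => ?_⟩
      haveI : Fact r.Prime := ⟨hr⟩
      haveI : Fact s.Prime := ⟨hs⟩
      obtain ⟨k, m, hnk, hrm, hm, ham⟩ := order_of_root (a := q) (by omega : 0 < n) (hcast hrc)
      have hsc : s ∣ cv q n := hM ▸ hsM.mul_left r
      obtain rfl := prime_dvd_n_unique (by omega) (hcast hrc) (hcast hsc) hrn hsn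
      refine not_sq_dvd (a := q) (by omega) (Nat.pos_of_ne_zero ?_) hnk hm ham ?_
      · rintro rfl
        exact hrm (by simpa [hnk] using hrn)
      · have h2 : r ^ 2 ∣ cv q n := by rw [hM, pow_two]; exact mul_dvd_mul_left r hsM
        have := hcast h2
        push_cast at this
        exact this
    · push Not at h
      exact ⟨cv q n, 1, (mul_one _).symm, by omega, fun s hs hsM => h s hs hsM⟩
  refine ⟨M, P, hMP, hPn, (Dvd.intro P hMP.symm).trans hdvd, fun i hi1 hin => ?_⟩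
  refine Nat.coprime_of_dvd fun s hs hsM hsi => ?_
  haveI : Fact s.Prime := ⟨hs⟩
  exact (primitive_of_root (a := q) (by omega) (by omega) (hM s hs hsM)
    (hcast (hsM.trans (Dvd.intro P hMP.symm)))).2 i (by omega) hin hsi

theorem cube_le_totient (n : ℕ) : n ^ 3 * (if 3 ∣ n then 16 else 1) ≤
    n.totient ^ 4 * (if 2 ∣ n then 8 else 1) * (if 3 ∣ n then 27 else 1) := by
  induction n using Nat.recOnPosPrimePosCoprime with
  | zero => simp
  | one => simp
  | @prime_pow p k hp hk =>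
    rw [Nat.totient_prime_pow hp hk]
    obtain ⟨j, rfl⟩ : ∃ j, k = j + 1 := ⟨k - 1, by omega⟩
    simp only [Nat.add_sub_cancel]
    have h2 : (2 ∣ p ^ (j + 1)) ↔ p = 2 :=
      ⟨fun h => ((Nat.prime_dvd_prime_iff_eq Nat.prime_two hp).mp
        (Nat.prime_two.dvd_of_dvd_pow h)).symm, fun h => by subst h; exact dvd_pow_self 2 (by omega)⟩
    have h3 : (3 ∣ p ^ (j + 1)) ↔ p = 3 :=
      ⟨fun h => ((Nat.prime_dvd_prime_iff_eq Nat.prime_three hp).mp
        (Nat.prime_three.dvd_of_dvd_pow h)).symm, fun h => by subst h; exact dvd_pow_self 3 (by omega)⟩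
    have key : p ^ 3 * (if 3 ∣ p ^ (j + 1) then 16 else 1) ≤ (p - 1) ^ 4 *
        (if 2 ∣ p ^ (j + 1) then 8 else 1) * (if 3 ∣ p ^ (j + 1) then 27 else 1) := by
      simp only [h2, h3]
      rcases eq_or_ne p 2 with rfl | hp2
      · norm_num
      rcases eq_or_ne p 3 with rfl | hp3
      · norm_num
      have h5 : 5 ≤ p := by
        by_contra hc
        have := hp.two_le
        interval_cases p
        · exact hp2 rfl
        · exact hp3 rfl
        · exact absurd hp (by decide)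
      simp only [hp2, hp3, if_false, mul_one]
      obtain ⟨x, rfl⟩ := Nat.exists_eq_add_of_le h5
      rw [show 5 + x - 1 = 4 + x by omega]
      nlinarith [Nat.zero_le (x ^ 4), Nat.zero_le (x ^ 3), Nat.zero_le (x ^ 2), Nat.zero_le x]
    calc (p ^ (j + 1)) ^ 3 * (if 3 ∣ p ^ (j + 1) then 16 else 1)
        = (p ^ j) ^ 3 * (p ^ 3 * (if 3 ∣ p ^ (j + 1) then 16 else 1)) := by ring
      _ ≤ (p ^ j) ^ 4 * ((p - 1) ^ 4 * (if 2 ∣ p ^ (j + 1) then 8 else 1) *
          (if 3 ∣ p ^ (j + 1) then 27 else 1)) :=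
        Nat.mul_le_mul (Nat.pow_le_pow_right (Nat.pow_pos hp.pos) (by norm_num)) key
      _ = _ := by ring
  | @coprime a b ha hb hab iha ihb =>
    have key : ∀ (r : ℕ) (c : ℕ), r.Prime →
        (if r ∣ a * b then c else 1) = (if r ∣ a then c else 1) * (if r ∣ b then c else 1) := by
      intro r c hr
      by_cases hra : r ∣ a
      · have hrb : ¬ r ∣ b := fun h => hr.not_dvd_one (hab ▸ Nat.dvd_gcd hra h)
        simp [hra, hrb, hra.mul_right b]
      · by_cases hrb : r ∣ b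
        · simp [hra, hrb, hrb.mul_left a]
        · simp [hra, hrb, hr.dvd_mul]
    rw [key 3 16 Nat.prime_three, key 2 8 Nat.prime_two, key 3 27 Nat.prime_three,
      Nat.totient_mul hab]
    calc _ = (a ^ 3 * if 3 ∣ a then 16 else 1) * (b ^ 3 * if 3 ∣ b then 16 else 1) := by ring
      _ ≤ _ := Nat.mul_le_mul iha ihb
      _ = _ := by ring

theorem growth {k : ℕ} (hk : 9 ≤ k) : 14 * (4 * k + 7) ^ 4 < 8 ^ k := by
  induction k, hk using Nat.le_induction with
  | base => norm_num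
  | succ k hk ih =>
    have h1 : (3 * (4 * (k + 1) + 7)) ^ 4 ≤ (5 * (4 * k + 7)) ^ 4 :=
      Nat.pow_le_pow_left (by omega) 4
    rw [mul_pow, mul_pow] at h1
    have : 8 ^ (k + 1) = 8 * 8 ^ k := pow_succ' 8 k
    omega

theorem lt_512 {n : ℕ} (hn : 3 ≤ n) (h : 2 ^ n.totient ≤ 9 * n ^ 4) : n < 512 := by
  by_contra hc
  set k := Nat.log 2 n
  have hk : 9 ≤ k := Nat.le_log_of_pow_le one_lt_two (by omega)
  have h1 : 2 ^ k ≤ n := Nat.pow_log_le_self 2 (by omega)
  have h2 : n < 2 ^ (k + 1) := Nat.lt_pow_succ_log_self one_lt_two n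
  have hφ : n.totient ≤ 4 * k + 7 := by
    have h3 : 2 ^ n.totient < 2 ^ (4 * k + 8) := by
      refine lt_of_le_of_lt h ?_
      calc 9 * n ^ 4 < 16 * n ^ 4 := by
            have : 0 < n ^ 4 := Nat.pow_pos (by omega)
            omega
        _ ≤ 16 * (2 ^ (k + 1)) ^ 4 := Nat.mul_le_mul_left _ (Nat.pow_le_pow_left h2.le 4)
        _ = 2 ^ (4 * k + 8) := by rw [← pow_mul]; ring
    have := (Nat.pow_lt_pow_iff_right one_lt_two).mp h3
    omega
  have h4 := cube_le_totient n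
  have h5 : n ^ 3 ≤ 14 * n.totient ^ 4 := by split_ifs at h4 <;> omega
  have h6 : 8 ^ k ≤ 14 * (4 * k + 7) ^ 4 := by
    calc 8 ^ k = (2 ^ k) ^ 3 := by rw [← pow_mul, mul_comm, pow_mul]; norm_num
      _ ≤ n ^ 3 := Nat.pow_le_pow_left h1 3
      _ ≤ 14 * n.totient ^ 4 := h5
      _ ≤ _ := Nat.mul_le_mul_left _ (Nat.pow_le_pow_left hφ 4)
  have := growth hk
  omega

/-- The thirteen exceptional pairs. -/
def exceptions : List (ℕ × ℕ) :=
  [(2, 6), (2, 4), (2, 10), (2, 12), (2, 18), (3, 4), (3, 6), (5, 6), (2, 3), (2, 8), (2, 20),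
    (4, 3), (4, 6)]

/-- `q ^ n - 1` with the factors shared with smaller `q ^ i - 1` removed. -/
def cand (q n : ℕ) : ℕ :=
  (List.range (n - 1)).foldl (fun m i => m / Nat.gcd m ((q ^ (i + 1) - 1) ^ 10)) (q ^ n - 1)

/-- The certificate. -/
def check (q n : ℕ) : Bool :=
  ((q ^ n - 1) % cand q n == 0) &&
    ((List.range (n - 1)).all fun i => Nat.gcd (cand q n) (q ^ (i + 1) - 1) == 1) &&
    Nat.ble (3 * n + 1) (cand q n)

theorem check_sound {q n : ℕ} (h : check q n = true) :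
    IsPrimitiveDiv q n (cand q n) ∧ 3 * n + 1 ≤ cand q n := by
  simp only [check, Bool.and_eq_true, beq_iff_eq, List.all_eq_true, List.mem_range,
    Nat.ble_eq] at h
  refine ⟨⟨Nat.dvd_of_mod_eq_zero h.1.1, fun i hi1 hin => ?_⟩, h.2⟩
  have := h.1.2 (i - 1) (by omega)
  rwa [Nat.sub_add_cancel hi1] at this

theorem small_totient : ∀ n < 512, 3 ≤ n → 2 ^ n.totient ≤ 9 * n ^ 4 → n < 91 := by decide +kernel

/-- One entry of the finite check. -/
def entry (n q : ℕ) : Bool :=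
  !(Nat.ble 3 n && Nat.ble 2 q && Nat.ble ((q - 1) ^ n.totient) (3 * n ^ 2)) ||
    check q n || exceptions.contains (q, n)

theorem small_check_bool :
    ((List.range 91).all fun n => (List.range 158).all fun q => entry n q) = true := by
  decide +kernel

theorem small_check (n : ℕ) (hn : n < 91) (h3 : 3 ≤ n) (q : ℕ) (hq : q < 158) (h2 : 2 ≤ q)
    (hle : (q - 1) ^ n.totient ≤ 3 * n ^ 2) : check q n = true ∨ (q, n) ∈ exceptions := by
  have h := List.all_eq_true.mp (List.all_eq_true.mp small_check_bool n (List.mem_range.mpr hn))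
    q (List.mem_range.mpr hq)
  have a : Nat.ble 3 n = true := Nat.ble_eq.mpr h3
  have b : Nat.ble 2 q = true := Nat.ble_eq.mpr h2
  have c : Nat.ble ((q - 1) ^ n.totient) (3 * n ^ 2) = true := Nat.ble_eq.mpr hle
  simpa [entry, a, b, c] using h

theorem exists_large {q n : ℕ} (hq : 2 ≤ q) (hn : 3 ≤ n) (hex : (q, n) ∉ exceptions) :
    ∃ m, IsPrimitiveDiv q n m ∧ 3 * n + 1 ≤ m := by
  obtain ⟨M, P, hMP, hP, hM⟩ := exists_primitive_part hq hn
  by_cases hbig : 3 * n + 1 ≤ M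
  · exact ⟨M, hM, hbig⟩
  have hcv : cv q n ≤ 3 * n ^ 2 := by
    rw [hMP, pow_two, ← mul_assoc]
    exact Nat.mul_le_mul (by omega) hP
  have h1 : 2 ^ n.totient ≤ 9 * n ^ 4 :=
    (sq_cv_ge hq hn).trans ((Nat.pow_le_pow_left hcv 2).trans (le_of_eq (by ring)))
  have hn91 := small_totient n (lt_512 hn h1) hn h1
  have h2 : (q - 1) ^ n.totient ≤ 3 * n ^ 2 :=
    (sub_one_pow_totient_lt_natAbs_cyclotomic_eval (q := q) (by omega) (by omega)).le.trans hcv
  have hφ : 2 ≤ n.totient := by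
    obtain ⟨a, ha⟩ := Nat.totient_even (show 2 < n by omega)
    have := Nat.totient_pos.mpr (show 0 < n by omega)
    omega
  have hq158 : q < 158 := by
    by_contra hc
    have h3 : 157 ^ 2 ≤ (q - 1) ^ n.totient :=
      (Nat.pow_le_pow_left (by omega) 2).trans (Nat.pow_le_pow_right (by omega) hφ)
    have h4 : 3 * n ^ 2 ≤ 3 * 90 ^ 2 := Nat.mul_le_mul_left _ (Nat.pow_le_pow_left (by omega) 2)
    omega
  rcases small_check n hn91 hn q hq158 hq h2 with h | h
  · exact ⟨_, check_sound h⟩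
  · exact absurd h hex

theorem dvd_cand {q n m : ℕ} (h : IsPrimitiveDiv q n m) : m ∣ cand q n := by
  suffices key : ∀ (l : List ℕ) (a : ℕ), (∀ i ∈ l, i + 1 < n) → m ∣ a →
      m ∣ l.foldl (fun m i => m / Nat.gcd m ((q ^ (i + 1) - 1) ^ 10)) a from
    key _ _ (fun i hi => by rw [List.mem_range] at hi; omega) h.1
  intro l
  induction l with
  | nil => exact fun a _ ha => ha
  | cons i l ih =>
    intro a hl ha
    refine ih _ (fun j hj => hl j (List.mem_cons_of_mem _ hj)) ?_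
    have hco : Nat.Coprime m (Nat.gcd a ((q ^ (i + 1) - 1) ^ 10)) :=
      Nat.Coprime.coprime_dvd_right (Nat.gcd_dvd_right _ _)
        ((h.2 (i + 1) (by omega) (hl i List.mem_cons_self)).pow_right 10)
    refine hco.dvd_of_dvd_mul_left ?_
    rwa [Nat.mul_div_cancel' (Nat.gcd_dvd_left _ _)]

theorem exceptions_small : ∀ x ∈ exceptions,
    0 < cand x.1 x.2 ∧ cand x.1 x.2 ≤ 2 * x.2 + 1 := by decide +kernel

theorem exceptional_le {q n m : ℕ} (hex : (q, n) ∈ exceptions) (h : IsPrimitiveDiv q n m) :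
    m ≤ 2 * n + 1 :=
  (Nat.le_of_dvd (exceptions_small _ hex).1 (dvd_cand h)).trans (exceptions_small _ hex).2

end Cfsg.Agent.LargePrimitive
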